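import Groth.Agent.L20.SeeNormal.Sheaf
import Groth.Agent.L01.NilDescent
import Mathlib.AlgebraicGeometry.Morphisms.Flat
import Mathlib.AlgebraicGeometry.Morphisms.ClosedImmersion
import Mathlib.RingTheory.TensorProduct.Quotient

/-!
# Flatness from the infinitesimal neighbourhoods
-/

set_option autoImplicit false
set_option linter.style.haveILetI false
set_option backward.isDefEq.respectTransparency false
set_option backward.isDefEq.respectTransparency.types false
universe u

open CategoryTheory CategoryTheory.Limits AlgebraicGeometry TopologicalSpace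
open scoped TensorProduct

noncomputable section

namespace Groth.L20.Infinitesimal

open Groth.L20.SeeNormal

variable {X Y : Scheme.{u}}

/-- The kernel on stalks of a closed immersion. -/
theorem ker_stalkMap (i : X ⟶ Y) [IsClosedImmersion i] (z : X) :
    RingHom.ker (i.stalkMap z).hom = sI i.ker (i z) := by
  obtain ⟨U, hU, hzU, -⟩ := exists_isAffineOpen_mem_and_subset (x := i z) (U := (⊤ : Y.Opens)) trivial
  let V := i ⁻¹ᵁ U
  have hV : IsAffineOpen V := hU.preimage i
  rw [sI_eq i.ker ⟨U, hU⟩ hzU, Scheme.Hom.ker_apply]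
  letI := Y.presheaf.algebra_section_stalk ⟨i z, hzU⟩
  haveI := hU.isLocalization_stalk ⟨i z, hzU⟩
  letI := X.presheaf.algebra_section_stalk (U := V) ⟨z, hzU⟩
  haveI := hV.isLocalization_stalk ⟨z, hzU⟩
  refine le_antisymm (fun b hb => ?_) (Ideal.map_le_iff_le_comap.2 fun a ha => ?_)
  · obtain ⟨⟨a, s⟩, has⟩ := IsLocalization.surj (hU.primeIdealOf ⟨i z, hzU⟩).asIdeal.primeCompl b
    have hu := IsLocalization.map_units (Y.presheaf.stalk (i z)) s
    have h1 : i.stalkMap z (Y.presheaf.germ U (i z) hzU a) = 0 := by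
      rw [show Y.presheaf.germ U (i z) hzU a = _ from has.symm, map_mul,
        show i.stalkMap z b = 0 from hb, zero_mul]
    rw [Scheme.Hom.germ_stalkMap_apply] at h1
    obtain ⟨⟨t, ht⟩, hta⟩ := (IsLocalization.map_eq_zero_iff (hV.primeIdealOf ⟨z, hzU⟩).asIdeal.primeCompl
      (X.presheaf.stalk z) (i.app U a)).1 h1
    obtain ⟨t', ht'⟩ : ∃ t', i.app U t' = t := by
      have : Function.Surjective (i.app U) := i.app_surjective U hU
      exact this t
    subst ht'
    have hk : t' * a ∈ RingHom.ker (i.app U).hom := by rw [RingHom.mem_ker, map_mul]; exact hta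
    have h2 : IsUnit (Y.presheaf.germ U (i z) hzU t') := by
      refine isUnit_of_map_unit (i.stalkMap z).hom _ ?_
      show IsUnit (i.stalkMap z (Y.presheaf.germ U (i z) hzU t'))
      rw [Scheme.Hom.germ_stalkMap_apply]
      exact IsLocalization.map_units (X.presheaf.stalk z) (⟨_, ht⟩ : (hV.primeIdealOf ⟨z, hzU⟩).asIdeal.primeCompl)
    have h3 := Ideal.mem_map_of_mem (Y.presheaf.germ U (i z) hzU).hom hk
    rw [map_mul, Ideal.unit_mul_mem_iff_mem _ h2, show Y.presheaf.germ U (i z) hzU a = _ from has.symm,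
      Ideal.mul_unit_mem_iff_mem _ hu] at h3
    exact h3
  · show i.stalkMap z (Y.presheaf.germ U (i z) hzU a) = 0
    rw [Scheme.Hom.germ_stalkMap_apply, show i.app U a = 0 from ha, map_zero]

theorem comap_stalkCongr_sI (I : Y.IdealSheafData) {y y' : Y} (h : y = y') :
    (sI I y').comap (Y.presheaf.stalkCongr (.of_eq h)).hom.hom = sI I y := by
  subst h
  simp

theorem sI_pow (I : Y.IdealSheafData) (n : ℕ) (y : Y) : sI (I ^ n) y = sI I y ^ n := by
  obtain ⟨U, hU, hy, -⟩ := exists_isAffineOpen_mem_and_subset (x := y) (U := (⊤ : Y.Opens)) trivial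
  rw [sI_eq _ ⟨U, hU⟩ hy, sI_eq _ ⟨U, hU⟩ hy, Scheme.IdealSheafData.ideal_pow, Pi.pow_apply, Ideal.map_pow]

/-- Flatness of a closed base change at a point gives flatness modulo the ideal. -/
theorem flat_quotient_of_flat_pullback (f : X ⟶ Y) (I : Y.IdealSheafData) [Flat (pullback.snd f I.subschemeι)]
    {x : X} (hx : f x ∈ I.support) :
    letI := (f.stalkMap x).hom.toAlgebra
    Module.Flat (Y.presheaf.stalk (f x) ⧸ sI I (f x))
      ((Y.presheaf.stalk (f x) ⧸ sI I (f x)) ⊗[Y.presheaf.stalk (f x)] X.presheaf.stalk x) := by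
  obtain ⟨w, hw⟩ : f x ∈ Set.range I.subschemeι := by rw [I.range_subschemeι]; exact hx
  obtain ⟨z, hz, -⟩ := Scheme.Pullback.exists_preimage_pullback (f := f) (g := I.subschemeι) x w hw.symm
  subst hz
  let p := pullback.fst f I.subschemeι
  let q := pullback.snd f I.subschemeι
  letI := (f.stalkMap (p z)).hom.toAlgebra
  have hyy : f (p z) = I.subschemeι (q z) := by
    rw [← Scheme.Hom.comp_apply, ← Scheme.Hom.comp_apply, pullback.condition]
  let α : Y.presheaf.stalk (f (p z)) ⟶ I.subscheme.presheaf.stalk (q z) :=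
    (Y.presheaf.stalkCongr (.of_eq hyy)).hom ≫ I.subschemeι.stalkMap (q z)
  have hα : Function.Surjective α.hom :=
    (I.subschemeι.stalkMap_surjective (q z)).comp
      (ConcreteCategory.bijective_of_isIso (Y.presheaf.stalkCongr (.of_eq hyy)).hom).2
  have hαk : RingHom.ker α.hom = sI I (f (p z)) := by
    rw [CommRingCat.hom_comp, ← RingHom.comap_ker, ker_stalkMap, Scheme.IdealSheafData.ker_subschemeι,
      comap_stalkCongr_sI I hyy]
  let β := p.stalkMap z
  have hβ : Function.Surjective β.hom := p.stalkMap_surjective z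
  have hβk : RingHom.ker β.hom = (sI I (f (p z))).map (f.stalkMap (p z)).hom := by
    rw [ker_stalkMap p z, ← sI_comap]
    rfl
  have hsq : α ≫ q.stalkMap z = f.stalkMap (p z) ≫ β := by
    have h1 := Scheme.Hom.stalkMap_congr_hom _ _ (pullback.condition (f := f) (g := I.subschemeι)) z
    rw [Scheme.Hom.stalkMap_comp, Scheme.Hom.stalkMap_comp] at h1
    simp only [α, β, p, q, Category.assoc]
    exact h1.symm
  let e₁ := RingHom.quotientKerEquivOfSurjective hα
  let e₂ := RingHom.quotientKerEquivOfSurjective hβ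
  let c₁ := Ideal.quotEquivOfEq hαk
  let c₂ := Ideal.quotEquivOfEq hβk
  have hflat : (c₂.toRingHom.comp (e₂.symm.toRingHom.comp ((q.stalkMap z).hom.comp
      (e₁.toRingHom.comp c₁.symm.toRingHom)))).Flat := by
    refine RingHom.Flat.comp (RingHom.Flat.comp (RingHom.Flat.comp (RingHom.Flat.comp ?_ ?_) ?_) ?_) ?_
    · exact RingHom.Flat.of_bijective c₁.symm.bijective
    · exact RingHom.Flat.of_bijective e₁.bijective
    · exact Flat.stalkMap q z
    · exact RingHom.Flat.of_bijective e₂.symm.bijective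
    · exact RingHom.Flat.of_bijective c₂.bijective
  have hmap : c₂.toRingHom.comp (e₂.symm.toRingHom.comp ((q.stalkMap z).hom.comp
      (e₁.toRingHom.comp c₁.symm.toRingHom))) =
      algebraMap (Y.presheaf.stalk (f (p z)) ⧸ sI I (f (p z)))
        (X.presheaf.stalk (p z) ⧸ (sI I (f (p z))).map (algebraMap (Y.presheaf.stalk (f (p z))) (X.presheaf.stalk (p z)))) := by
    refine Ideal.Quotient.ringHom_ext (RingHom.ext fun r => ?_)
    simp only [RingHom.comp_apply, RingEquiv.toRingHom_eq_coe, RingHom.coe_coe, c₁, Ideal.quotEquivOfEq_symm,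
      Ideal.quotEquivOfEq_mk]
    have h2 : (q.stalkMap z).hom (e₁ (Ideal.Quotient.mk _ r)) = β.hom ((f.stalkMap (p z)).hom r) :=
      congr($hsq r)
    rw [h2]
    have h3 : e₂.symm (β.hom ((f.stalkMap (p z)).hom r)) = Ideal.Quotient.mk _ ((f.stalkMap (p z)).hom r) :=
      e₂.symm_apply_eq.2 rfl
    rw [h3]
    rfl
  rw [hmap] at hflat
  haveI : Module.Flat (Y.presheaf.stalk (f (p z)) ⧸ sI I (f (p z)))
      (X.presheaf.stalk (p z) ⧸ (sI I (f (p z))).map (algebraMap (Y.presheaf.stalk (f (p z))) (X.presheaf.stalk (p z)))) :=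
    RingHom.flat_algebraMap_iff.1 hflat
  exact Module.Flat.of_linearEquiv
    (Algebra.TensorProduct.quotIdealMapEquivQuotTensor (X.presheaf.stalk (p z)) (sI I (f (p z)))).toLinearEquiv.symm

theorem flat_stalkMap (f : X ⟶ Y) [IsLocallyNoetherian X] [IsLocallyNoetherian Y] (I : Y.IdealSheafData)
    (h : ∀ n : ℕ, Flat (pullback.snd f (I ^ (n + 1)).subschemeι)) (x : X) (hx : f x ∈ I.support) :
    (f.stalkMap x).hom.Flat := by
  letI := (f.stalkMap x).hom.toAlgebra
  show Module.Flat (Y.presheaf.stalk (f x)) (X.presheaf.stalk x)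
  refine Groth.L01.NilDescent.flat_of_flat_quotient_pow (sI I (f x)) ?_ fun n hn => ?_
  · rw [IsLocalRing.jacobson_eq_maximalIdeal _ bot_ne_top, Ideal.map_le_iff_le_comap]
    refine (IsLocalRing.le_maximalIdeal ?_).trans fun t ht => map_nonunit (f.stalkMap x).hom t ht
    intro htop
    obtain ⟨U, hU, hxU, -⟩ := exists_isAffineOpen_mem_and_subset (x := f x) (U := (⊤ : Y.Opens)) trivial
    letI := Y.presheaf.algebra_section_stalk ⟨f x, hxU⟩
    haveI := hU.isLocalization_stalk ⟨f x, hxU⟩
    rw [sI_eq I ⟨U, hU⟩ hxU] at htop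
    refine (IsLocalRing.maximalIdeal.isMaximal (Y.presheaf.stalk (f x))).ne_top (top_le_iff.1 (htop.ge.trans ?_))
    refine Ideal.map_le_iff_le_comap.2 fun a ha => ?_
    refine (IsLocalization.AtPrime.to_map_mem_maximal_iff (Y.presheaf.stalk (f x)) (hU.primeIdealOf ⟨f x, hxU⟩).asIdeal a).2 ?_
    rw [Scheme.IdealSheafData.mem_support_iff_of_mem (U := ⟨U, hU⟩) hxU, Scheme.mem_zeroLocus_iff] at hx
    by_contra hap
    refine hx a ha ?_
    rw [Y.mem_basicOpen a (f x) hxU]
    exact IsLocalization.map_units (Y.presheaf.stalk (f x)) (⟨a, hap⟩ : (hU.primeIdealOf ⟨f x, hxU⟩).asIdeal.primeCompl)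
  · obtain ⟨m, rfl⟩ := Nat.exists_eq_add_of_le' hn
    rw [← sI_pow]
    haveI := h m
    exact flat_quotient_of_flat_pullback f (I ^ (m + 1)) (by rwa [Scheme.IdealSheafData.support_pow_succ])

end Groth.L20.Infinitesimal
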