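import Groth.Agent.L20.Infinitesimal.Flat
import Groth.Agent.L05.Point.Crit
import Groth.Agent.L19.SmoothLocus

/-!
# Smoothness and étaleness from the infinitesimal neighbourhoods
-/

set_option autoImplicit false
set_option linter.style.haveILetI false
set_option backward.isDefEq.respectTransparency.types false
universe u

open CategoryTheory CategoryTheory.Limits AlgebraicGeometry TopologicalSpace

noncomputable section

namespace Groth.L20.Infinitesimal

variable {X S : Scheme.{u}} (f : X ⟶ S)

theorem fibre_of_pullback (P : MorphismProperty Scheme.{u}) [P.IsStableUnderBaseChange] [P.RespectsIso]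
    (I : S.IdealSheafData) (h : P (pullback.snd f (I ^ (0 + 1)).subschemeι)) {s : S} (hs : s ∈ I.support) :
    P (f.fiberToSpecResidueField s) := by
  obtain ⟨w, rfl⟩ : s ∈ Set.range (I ^ (0 + 1)).subschemeι := by
    rw [(I ^ (0 + 1)).range_subschemeι, Scheme.IdealSheafData.support_pow_succ]; exact hs
  let g := (I ^ (0 + 1)).subschemeι
  haveI : IsIso (g.residueFieldMap w) := by
    refine (ConcreteCategory.isIso_iff_bijective _).2 ⟨(g.residueFieldMap w).hom.injective, ?_⟩
    intro t
    obtain ⟨t', rfl⟩ := Scheme.residue_surjective _ w t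
    obtain ⟨t'', rfl⟩ := g.stalkMap_surjective w t'
    exact ⟨S.residue _ t'', congr($(Scheme.residue_residueFieldMap g w) t'')⟩
  have h1 := (IsPullback.of_hasPullback (pullback.snd f g) ((I ^ (0 + 1)).subscheme.fromSpecResidueField w)).paste_horiz
    (IsPullback.of_hasPullback f g)
  rw [← Scheme.Hom.SpecMap_residueFieldMap_fromSpecResidueField g w] at h1
  have h2 : P (pullback.snd (pullback.snd f g) ((I ^ (0 + 1)).subscheme.fromSpecResidueField w)) :=
    MorphismProperty.pullback_snd _ _ h
  have h3 := (IsPullback.of_hasPullback f (S.fromSpecResidueField (g w)))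
  have h5 : IsPullback (pullback.fst (pullback.snd f g) ((I ^ (0 + 1)).subscheme.fromSpecResidueField w) ≫ pullback.fst f g)
      (pullback.snd (pullback.snd f g) ((I ^ (0 + 1)).subscheme.fromSpecResidueField w) ≫ Spec.map (g.residueFieldMap w))
      f (S.fromSpecResidueField (g w)) :=
    h1.of_iso (Iso.refl _) (Iso.refl _) (asIso (Spec.map (g.residueFieldMap w))) (Iso.refl _) (by simp) (by simp) (by simp) (by simp)
  show P (pullback.snd f (S.fromSpecResidueField (g w)))
  rw [← h5.isoPullback_inv_snd, P.cancel_left_of_respectsIso, P.cancel_right_of_respectsIso]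
  exact h2

theorem mem_smoothLocus [IsLocallyNoetherian S] [LocallyOfFinitePresentation f]
    (I : S.IdealSheafData) (h : ∀ n : ℕ, Smooth (pullback.snd f (I ^ (n + 1)).subschemeι)) (x : X) (hx : f x ∈ I.support) :
    x ∈ f.smoothLocus := by
  haveI := LocallyOfFiniteType.isLocallyNoetherian f
  have hflat := flat_stalkMap f I (fun n => by haveI := h n; infer_instance) x hx
  refine (Groth.L19.SmoothLocus.mem_iff_nhd f x).2 (Groth.L05.Point.nhd_smooth_of_fiber f x hflat ?_)
  have := fibre_of_pullback f @Smooth I (h 0) hx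
  exact ⟨⊤, trivial, inferInstance⟩

theorem exists_etale_nhd [IsLocallyNoetherian S] [LocallyOfFinitePresentation f]
    (I : S.IdealSheafData) (h : ∀ n : ℕ, Etale (pullback.snd f (I ^ (n + 1)).subschemeι)) (x : X) (hx : f x ∈ I.support) :
    ∃ U : X.Opens, x ∈ U ∧ Etale (U.ι ≫ f) := by
  haveI := LocallyOfFiniteType.isLocallyNoetherian f
  have hflat := flat_stalkMap f I (fun n => by haveI := h n; infer_instance) x hx
  refine (Groth.L05.Point.nhd_etale_iff f x).2 ⟨Groth.L05.Point.nhd_formallyUnramified_of_fiber f x ?_, hflat⟩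
  have := fibre_of_pullback f @Etale I (h 0) hx
  exact ⟨⊤, trivial, inferInstance⟩

end Groth.L20.Infinitesimal
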